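import Cfsg.Agent.OddHalf.Iface
import Cfsg.Agent.Lib.PComponents
import Cfsg.Agent.SignalizersComponents.QsRankOne
import Cfsg.Agent.SylowSp4.QuatId

/-!
# Node D1' of the odd half: a terminal component has 2-rank at least 2

A component of 2-rank 1 of an involution centralizer with trivial core is `SL(2, q)` or the double cover of `A₇`
(Brauer–Suzuki, Gorenstein–Walter), and terminality makes its involution a classical involution.
-/

set_option autoImplicit false

namespace Cfsg.Agent.OddHalf.D1

open Subgroup Cfsg Cfsg.Agent.OddHalf.Iface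
open scoped commutatorElement

universe u

/-- A quasisimple group `K` with trivial core and 2-rank 1 has a central involution `z`, and it is `SL(2, F)` or a
non-split double cover of `A₇`. -/
theorem identify (hGW : SylowSp4.Hyps.GW.{u}) {K : Type u} [Group K] [Finite K] (hq : IsQuasisimple K)
    (hO : oddCore K = ⊥) (hrk : PRankLE 2 1 K) :
    (∃ z ∈ center K, orderOf z = 2) ∧
      ((∃ (F : Type) (_ : Field F) (_ : Fintype F), Odd (Fintype.card F) ∧
          Nonempty (K ≃* Matrix.SpecialLinearGroup (Fin 2) F)) ∨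
        IsNonsplitDoubleCover K ↥(alternatingGroup (Fin 7))) := by
  have hperf : Group.IsPerfect K := hq.1
  have hsimple : IsSimpleGroup (K ⧸ center K) := hq.2
  have hcomm : commutator K = ⊤ := hperf.commutator_eq_top
  have hnt : Nontrivial K := by
    have h1 : Nontrivial (K ⧸ center K) := inferInstance
    exact (QuotientGroup.mk'_surjective (center K)).nontrivial
  have heven : Even (Nat.card K) := by
    by_contra hodd
    rw [Nat.not_even_iff_odd] at hodd
    have h1 : (⊤ : Subgroup K) ≤ oddCore K := by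
      apply le_sSup
      refine ⟨inferInstance, ?_⟩
      rw [Subgroup.card_top]
      exact Nat.Coprime.symm ((Nat.coprime_two_left).2 hodd)
    rw [hO] at h1
    exact bot_ne_top (le_bot_iff.1 h1).symm
  obtain ⟨⟨z, hzc, hz2⟩, S, n, ⟨e⟩⟩ :=
    SignalizersComponents.QsRankOne.exists_central_involution hq heven hrk
  refine ⟨⟨z, hzc, hz2⟩, ?_⟩
  have hzn : (zpowers z).Normal := by
    have h1 : zpowers z ≤ center K := by rwa [zpowers_le]
    exact ⟨fun a ha g => by
      have h2 := mem_center_iff.1 (h1 ha) g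
      rw [h2, mul_inv_cancel_right]
      exact ha⟩
  rcases SylowSp4.QuatId.exists_sl hGW hO hcomm S (Nat.succ_le_succ (Nat.zero_le n)) e hz2 hzc with h | ⟨-, ⟨φ⟩⟩
  · exact Or.inl h
  · right
    have hA7 : IsSimpleGroup (alternatingGroup (Fin 7)) := by
      apply alternatingGroup.isSimpleGroup
      simp
    have hsq : IsSimpleGroup (K ⧸ zpowers z) := φ.isSimpleGroup
    -- the centre is `⟨z⟩`
    have hna : ¬ IsMulCommutative (K ⧸ zpowers z) := by
      intro h
      have h1 : commutator K ≤ zpowers z := by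
        rw [_root_.commutator_def, Subgroup.commutator_le]
        intro a _ b _
        rw [← QuotientGroup.eq_one_iff]
        have h2 := h.is_comm.comm (QuotientGroup.mk a : K ⧸ zpowers z) (QuotientGroup.mk b)
        change (QuotientGroup.mk' (zpowers z)) ⁅a, b⁆ = 1
        rw [map_commutatorElement, commutatorElement_eq_one_iff_mul_comm]
        exact h2
      rw [hcomm] at h1
      have h2 : (⊤ : Subgroup K) ≤ center K := h1.trans (by rwa [zpowers_le])
      have h3 : Subsingleton (K ⧸ center K) := by
        rw [top_le_iff.1 h2]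
        exact QuotientGroup.subsingleton_quotient_top
      exact not_subsingleton _ h3
    have hcz : center K = zpowers z := by
      refine le_antisymm ?_ (by rwa [zpowers_le])
      have h1 : (center K).map (QuotientGroup.mk' (zpowers z)) ≤ center (K ⧸ zpowers z) := by
        rintro _ ⟨c, hc, rfl⟩
        rw [mem_center_iff]
        intro g
        obtain ⟨g, rfl⟩ := QuotientGroup.mk'_surjective (zpowers z) g
        rw [← map_mul, ← map_mul, mem_center_iff.1 hc g]
      have h2 : center (K ⧸ zpowers z) = ⊥ := by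
        rcases hsq.eq_bot_or_eq_top_of_normal (center (K ⧸ zpowers z)) inferInstance with h | h
        · exact h
        · exfalso
          apply hna
          exact ⟨⟨fun a b => by
            have := mem_center_iff.1 (h ▸ mem_top b : b ∈ center (K ⧸ zpowers z)) a
            exact this⟩⟩
      rw [h2, le_bot_iff, Subgroup.map_eq_bot_iff, QuotientGroup.ker_mk'] at h1
      exact h1
    refine ⟨?_, ?_, ?_⟩
    · rw [hcz, Nat.card_zpowers, hz2]
    · exact ⟨(QuotientGroup.quotientMulEquivOfEq hcz).trans φ⟩
    · intro L hL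
      have h1 : commutator K ≤ L := by
        rw [_root_.commutator_def, Subgroup.commutator_le]
        intro a _ b _
        obtain ⟨⟨c, l⟩, hcl, -⟩ := hL.existsUnique a
        obtain ⟨⟨d, m⟩, hdm, -⟩ := hL.existsUnique b
        simp only at hcl hdm
        have hc := mem_center_iff.1 c.2
        have hd := mem_center_iff.1 d.2
        have h2 : ⁅a, b⁆ = ⁅(l : K), (m : K)⁆ := by
          rw [← hcl, ← hdm, commutatorElement_def, commutatorElement_def]
          calc (c : K) * l * ((d : K) * m) * ((c : K) * l)⁻¹ * ((d : K) * m)⁻¹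
              = c * (l * (d * m) * (l : K)⁻¹) * (c : K)⁻¹ * ((m : K)⁻¹ * (d : K)⁻¹) := by group
            _ = l * (d * m) * (l : K)⁻¹ * c * (c : K)⁻¹ * ((m : K)⁻¹ * (d : K)⁻¹) := by rw [hc]
            _ = l * (d * (m * (l : K)⁻¹ * (m : K)⁻¹)) * (d : K)⁻¹ := by group
            _ = l * (m * (l : K)⁻¹ * (m : K)⁻¹ * d) * (d : K)⁻¹ := by rw [hd]
            _ = l * m * (l : K)⁻¹ * (m : K)⁻¹ := by group
        rw [h2, commutatorElement_def]
        exact L.mul_mem (L.mul_mem (L.mul_mem l.2 m.2) (L.inv_mem l.2)) (L.inv_mem m.2)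
      rw [hcomm, top_le_iff] at h1
      have h3 := hL.disjoint
      rw [h1, disjoint_top] at h3
      have h4 : z ∈ center K := hzc
      rw [h3, mem_bot] at h4
      rw [h4, orderOf_one] at hz2
      omega

theorem rankLE_of_injective {p k : ℕ} {A B : Type*} [Group A] [Group B] (f : A →* B)
    (hf : Function.Injective f) (h : PRankLE p k B) : PRankLE p k A := by
  intro E hE hexp
  have e := E.equivMapOfInjective f hf
  rw [Nat.card_congr e.toEquiv]
  refine h (E.map f) ⟨⟨?_⟩⟩ ?_
  · rintro ⟨_, a, ha, rfl⟩ ⟨_, b, hb, rfl⟩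
    have h1 := congrArg Subtype.val (hE.is_comm.comm ⟨a, ha⟩ ⟨b, hb⟩)
    apply Subtype.ext
    change f a * f b = f b * f a
    rw [← map_mul, ← map_mul]
    exact congrArg f h1
  · rintro _ ⟨a, ha, rfl⟩
    rw [← map_pow, hexp a ha, map_one]

/-- No terminal component has 2-rank 1 (no maximality). -/
theorem not_rank_one (hGW : SylowSp4.Hyps.GW.{u}) {G : Type u} [Group G] (hG : Ctx G) {K : Subgroup G}
    (hK : Term0 G K) : ¬ PRankLE 2 1 ↥K := by
  intro hrk
  have hfin : Finite G := hG.fin
  obtain ⟨t, ht2, hKt, hcomp⟩ := hK.comp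
  have e0 : ↥(K.subgroupOf (centralizer ({t} : Set G))) ≃* ↥K := subgroupOfEquivOfLe hKt
  have hq : IsQuasisimple ↥K :=
    Cfsg.Agent.SignalizersComponents.QsBasic.isQuasisimple_of_mulEquiv e0 hcomp.2
  have hbal : pPrimeCore 2 ↥(centralizer ({t} : Set G)) = ⊥ := by
    have h1 := hG.bal t ht2
    rw [centralizerPPrimeCore, Subgroup.map_eq_bot_iff_of_injective _ (subtype_injective _)] at h1
    exact h1
  have hO' : oddCore ↥(K.subgroupOf (centralizer ({t} : Set G))) = ⊥ := by
    have h1 := Lib.PComponents.map_pPrimeCore_le_of_isSubnormal (p := 2) hcomp.1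
    rw [hbal, le_bot_iff, Subgroup.map_eq_bot_iff_of_injective _ (subtype_injective _)] at h1
    exact h1
  have hO : oddCore ↥K = ⊥ := by
    have h1 := Lib.Cores.map_equiv_pPrimeCore e0 2
    rw [show pPrimeCore 2 ↥(K.subgroupOf (centralizer ({t} : Set G))) = ⊥ from hO', Subgroup.map_bot] at h1
    exact h1.symm
  have e1 : ↥K ⧸ oddCore ↥K ≃* ↥K := (QuotientGroup.quotientMulEquivOfEq hO).trans QuotientGroup.quotientBot
  obtain ⟨⟨z, hzc, hz2⟩, -⟩ := identify hGW hq hO hrk
  have hid := (identify (K := ↥K ⧸ oddCore ↥K) hGW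
    (Cfsg.Agent.SignalizersComponents.QsBasic.isQuasisimple_of_mulEquiv e1.symm hq) (by
      have h1 := Lib.Cores.map_equiv_pPrimeCore e1.symm 2
      rw [show pPrimeCore 2 ↥K = ⊥ from hO, Subgroup.map_bot] at h1
      exact h1.symm) (rankLE_of_injective e1.toMonoidHom e1.injective hrk)).2
  have hz2' : orderOf (z : G) = 2 := by rw [Subgroup.orderOf_coe]; exact hz2
  have hzK : (z : G) ∈ centralizer (K : Set G) := by
    rw [mem_centralizer_iff]
    intro g hg
    exact congrArg Subtype.val (mem_center_iff.1 hzc ⟨g, hg⟩)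
  obtain ⟨h1, h2⟩ := hK.term z hz2' hzK
  refine hG.classical z K hz2' ⟨h1, z.2, h2.1⟩ ?_
  exact hid

/-- **D1'**: no terminal component has 2-rank 1 (given the Gorenstein–Walter theorem). -/
theorem d1rank1 (hGW : SylowSp4.Hyps.GW.{u}) : D1rank1.{u} :=
  fun _ _ hG _ hK => not_rank_one hGW hG hK.toTerm0

end Cfsg.Agent.OddHalf.D1
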